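import Mathlib

/-!
# Basic lemmas for one-dimensional formal branches (helper8)
-/

universe u
open IsLocalRing

namespace Groth.Agent.H8.OneDim

section Approx

variable {R T : Type*} [CommRing R] [IsLocalRing R] [CommRing T] [IsLocalRing T] [Algebra R T]

/-- If `m_R T = m_T` and the residue field of `T` is that of `R`, then `R` is dense in `T`. -/
theorem exists_sub_mem_pow (hm : (maximalIdeal R).map (algebraMap R T) = maximalIdeal T)
    (hres : ∀ t : T, ∃ r : R, t - algebraMap R T r ∈ maximalIdeal T) (M : ℕ) (t : T) :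
    ∃ r : R, t - algebraMap R T r ∈ (maximalIdeal T) ^ M := by
  induction M generalizing t with
  | zero => exact ⟨0, by simp⟩
  | succ M ih =>
    obtain ⟨r₀, hr₀⟩ := ih t
    have hpow : (maximalIdeal T) ^ M = ((maximalIdeal R) ^ M).map (algebraMap R T) := by
      rw [Ideal.map_pow, hm]
    suffices h : ∀ μ ∈ ((maximalIdeal R) ^ M).map (algebraMap R T),
        ∃ r ∈ (maximalIdeal R) ^ M, μ - algebraMap R T r ∈ (maximalIdeal T) ^ (M + 1) by
      rw [hpow] at hr₀
      obtain ⟨r₁, -, hr₁⟩ := h _ hr₀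
      refine ⟨r₀ + r₁, ?_⟩
      have : t - algebraMap R T (r₀ + r₁) = t - algebraMap R T r₀ - algebraMap R T r₁ := by
        rw [map_add]; ring
      rw [this]; exact hr₁
    intro μ hμ
    induction hμ using Submodule.span_induction with
    | mem μ hμ =>
      obtain ⟨a, ha, rfl⟩ := hμ
      exact ⟨a, ha, by simp⟩
    | zero => exact ⟨0, Ideal.zero_mem _, by simp⟩
    | add μ₁ μ₂ _ _ h₁ h₂ =>
      obtain ⟨r₁, hr₁, h₁⟩ := h₁
      obtain ⟨r₂, hr₂, h₂⟩ := h₂
      refine ⟨r₁ + r₂, Ideal.add_mem _ hr₁ hr₂, ?_⟩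
      have : μ₁ + μ₂ - algebraMap R T (r₁ + r₂) =
          (μ₁ - algebraMap R T r₁) + (μ₂ - algebraMap R T r₂) := by rw [map_add]; ring
      rw [this]; exact Ideal.add_mem _ h₁ h₂
    | smul t' μ' _ h' =>
      obtain ⟨r', hr', h'⟩ := h'
      obtain ⟨r'', hr''⟩ := hres t'
      refine ⟨r'' * r', Ideal.mul_mem_left _ _ hr', ?_⟩
      have h1 : t' • μ' - algebraMap R T (r'' * r') =
          (t' - algebraMap R T r'') * algebraMap R T r' + t' * (μ' - algebraMap R T r') := by
        rw [map_mul, smul_eq_mul]; ring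
      rw [h1]
      refine Ideal.add_mem _ ?_ (Ideal.mul_mem_left _ _ h')
      have h2 : algebraMap R T r' ∈ (maximalIdeal T) ^ M := by
        rw [hpow]; exact Ideal.mem_map_of_mem _ hr'
      rw [pow_succ']
      exact Ideal.mul_mem_mul hr'' h2

end Approx

section Colon

/-- Flat descent of a colon-ideal membership with approximation: if `s 𝔞 T ⊆ c T` then `s` is
congruent mod `J` to some `σ₀ ∈ R` with `σ₀ 𝔞 ⊆ c R`. -/
theorem exists_approx_colon {R T : Type u} [CommRing R] [CommRing T] [Algebra R T] [Module.Flat R T]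
    {ι : Type} [Fintype ι] (y : ι → R) (c : R) (J : Ideal T)
    (hJ : ∀ t : T, ∃ r : R, t - algebraMap R T r ∈ J) (s : T)
    (hs : ∀ i, ∃ t : T, algebraMap R T c * t = s * algebraMap R T (y i)) :
    ∃ σ₀ : R, (∀ i, ∃ r : R, c * r = y i * σ₀) ∧ s - algebraMap R T σ₀ ∈ J := by
  classical
  choose t ht using hs
  let N := R × (ι →₀ R)
  let f : (ι →₀ R) →ₗ[R] N :=
    LinearMap.prod (-(Finsupp.linearCombination R y)) (c • LinearMap.id)
  let x : N →ₗ[R] T :=
    LinearMap.coprod (LinearMap.toSpanSingleton R T s) (Finsupp.linearCombination R t)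
  have hf : ∀ c', f c' = (-(Finsupp.linearCombination R y c'), c • c') := fun _ => rfl
  have hxa : ∀ p : N, x p = p.1 • s + Finsupp.linearCombination R t p.2 := fun _ => rfl
  have hx : x ∘ₗ f = 0 := by
    ext i
    simp only [LinearMap.coe_comp, Function.comp_apply, Finsupp.lsingle_apply, LinearMap.zero_comp,
      LinearMap.zero_apply, hf, hxa, Finsupp.linearCombination_single, one_smul,
      Finsupp.smul_single, smul_eq_mul, mul_one]
    rw [Algebra.smul_def, Algebra.smul_def, map_neg, ht i]
    ring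
  obtain ⟨k, a, yy, hya, haf⟩ :=
    Module.Flat.exists_factorization_of_comp_eq_zero_of_free (R := R) (M := T) (K := ι →₀ R)
      (N := N) (f := f) (x := x) hx
  choose ρ hρ using fun l : Fin k => hJ (yy (Finsupp.single l 1))
  let σ : Fin k → R := fun l => a (1, 0) l
  have hsum : s = ∑ l : Fin k, algebraMap R T (σ l) * yy (Finsupp.single l 1) := by
    have h1 : x (1, 0) = yy (a (1, 0)) := by
      have := congrArg (fun w => w (1, 0)) hya
      simpa using this
    have h2 : x (1, 0) = s := by
      rw [hxa]; simp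
    rw [← h2, h1]
    conv_lhs => rw [← Finsupp.univ_sum_single (a (1, 0))]
    rw [map_sum]
    refine Finset.sum_congr rfl fun l _ => ?_
    rw [← Algebra.smul_def, ← map_smul]
    congr 1
    rw [Finsupp.smul_single, smul_eq_mul, mul_one]
  have hrel : ∀ i l, c * a (0, Finsupp.single i 1) l = y i * σ l := by
    intro i l
    have h1 : a (f (Finsupp.single i 1)) = 0 := by
      have := congrArg (fun w => w (Finsupp.single i 1)) haf
      simpa using this
    have h2 : f (Finsupp.single i 1) = (-(y i)) • ((1 : R), (0 : ι →₀ R)) +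
        c • ((0 : R), Finsupp.single i (1 : R)) := by
      rw [hf]
      simp [Finsupp.linearCombination_single, Prod.ext_iff]
    rw [h2, map_add, map_smul, map_smul] at h1
    have h3 := congrArg (fun w => w l) h1
    simp only [Finsupp.coe_add, Finsupp.coe_smul, Pi.add_apply, Pi.smul_apply, smul_eq_mul,
      Finsupp.coe_zero, Pi.zero_apply] at h3
    show c * a (0, Finsupp.single i 1) l = y i * a (1, 0) l
    linear_combination h3
  refine ⟨∑ l : Fin k, σ l * ρ l, fun i => ⟨∑ l : Fin k, a (0, Finsupp.single i 1) l * ρ l, ?_⟩, ?_⟩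
  · rw [Finset.mul_sum, Finset.mul_sum]
    refine Finset.sum_congr rfl fun l _ => ?_
    rw [← mul_assoc, hrel i l, mul_assoc]
  · have : s - algebraMap R T (∑ l : Fin k, σ l * ρ l) =
        ∑ l : Fin k, algebraMap R T (σ l) * (yy (Finsupp.single l 1) - algebraMap R T (ρ l)) := by
      conv_lhs => rw [hsum]
      rw [map_sum, ← Finset.sum_sub_distrib]
      refine Finset.sum_congr rfl fun l _ => ?_
      rw [map_mul]; ring
    rw [this]
    exact Ideal.sum_mem _ fun l _ => Ideal.mul_mem_left _ _ (hρ l)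

end Colon

end Groth.Agent.H8.OneDim
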