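import Mathlib

/-!
# Elements with maximal annihilator outside a minimal prime (helper8)
-/

universe u
open IsLocalRing

namespace Groth.Agent.H8.OneDim

variable {T : Type*} [CommRing T]

/-- An element of a minimal prime has a power killed by an element outside it. -/
theorem exists_notMem_mul_pow_eq_zero {q : Ideal T} (hq : q ∈ minimalPrimes T) {x : T}
    (hx : x ∈ q) : ∃ w ∉ q, ∃ n : ℕ, w * x ^ n = 0 := by
  haveI := hq.1.1
  have h1 := IsLocalization.AtPrime.radical_map_of_mem_minimalPrimes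
    (A := Localization.AtPrime q) q ⊥ hq
  have h2 : algebraMap T (Localization.AtPrime q) x ∈
      (Ideal.map (algebraMap T (Localization.AtPrime q)) ⊥).radical := by
    rw [h1]; exact Ideal.mem_map_of_mem _ hx
  rw [Ideal.map_bot] at h2
  obtain ⟨n, hn⟩ := h2
  rw [Ideal.mem_bot, ← map_pow, IsLocalization.map_eq_zero_iff q.primeCompl] at hn
  obtain ⟨s, hs⟩ := hn
  exact ⟨s, s.2, n, hs⟩

/-- The annihilator of an element, as an ideal. -/
def ann (s : T) : Ideal T := LinearMap.ker (LinearMap.toSpanSingleton T T s)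

theorem mem_ann {s t : T} : t ∈ ann s ↔ t * s = 0 := by
  simp [ann, LinearMap.mem_ker, LinearMap.toSpanSingleton_apply]

variable [IsNoetherianRing T] (q : Ideal T)

/-- There is an element outside `q` whose annihilator is maximal among such. -/
theorem exists_maximal_ann (hq1 : (1 : T) ∉ q) :
    ∃ s : T, s ∉ q ∧ ∀ s' : T, s' ∉ q → ann s ≤ ann s' → ann s' = ann s := by
  obtain ⟨I, ⟨s, hs, rfl⟩, hmax⟩ := set_has_maximal_iff_noetherian.mpr
    (inferInstance : IsNoetherian T T) {I : Submodule T T | ∃ s ∉ q, ann s = I} ⟨_, 1, hq1, rfl⟩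
  refine ⟨s, hs, fun s' hs' hle => ?_⟩
  by_contra hne
  exact hmax (ann s') ⟨s', hs', rfl⟩ (lt_of_le_of_ne hle (Ne.symm hne))

/-- Properties of an element with maximal annihilator outside a minimal prime `q`. -/
structure IsMaxAnn (s : T) : Prop where
  notMem : s ∉ q
  max : ∀ s' : T, s' ∉ q → ann s ≤ ann s' → ann s' = ann s

variable {q}

theorem IsMaxAnn.ann_le [q.IsPrime] {s : T} (hs : IsMaxAnn q s) : ann s ≤ q := by
  intro t ht
  rw [mem_ann] at ht
  have : t * s ∈ q := ht ▸ q.zero_mem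
  exact (Ideal.IsPrime.mem_or_mem inferInstance this).resolve_right hs.notMem

theorem IsMaxAnn.mem_of_mul_mem [q.IsPrime] {s : T} (hs : IsMaxAnn q s) {v t : T} (hv : v ∉ q)
    (hvt : v * t ∈ ann s) : t ∈ ann s := by
  have hvs : v * s ∉ q := fun h =>
    (Ideal.IsPrime.mem_or_mem inferInstance h).elim hv hs.notMem
  have hle : ann s ≤ ann (v * s) := by
    intro t' ht'
    rw [mem_ann] at ht' ⊢
    rw [mul_left_comm, ht', mul_zero]
  have heq := hs.max (v * s) hvs hle
  rw [← heq, mem_ann]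
  rw [mem_ann] at hvt
  rw [← hvt]; ring

theorem IsMaxAnn.le_of_ann_le {s : T} (hs : IsMaxAnn q s) (hq : q ∈ minimalPrimes T)
    {P : Ideal T} [P.IsPrime] (hP : ann s ≤ P) : q ≤ P := by
  haveI := hq.1.1
  intro v hv
  obtain ⟨w, hw, n, hwn⟩ := exists_notMem_mul_pow_eq_zero hq hv
  have h1 : w * v ^ n ∈ ann s := by rw [hwn]; exact Ideal.zero_mem _
  have h2 : v ^ n ∈ ann s := hs.mem_of_mul_mem hw h1
  exact Ideal.IsPrime.mem_of_pow_mem inferInstance n (hP h2)

theorem IsMaxAnn.mem_of_ne {s : T} (hs : IsMaxAnn q s) (hq : q ∈ minimalPrimes T)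
    {Q : Ideal T} (hQ : Q ∈ minimalPrimes T) (hne : Q ≠ q) : s ∈ Q := by
  haveI := hQ.1.1
  by_contra hsQ
  apply hne
  have hle : ann s ≤ Q := by
    intro t ht
    rw [mem_ann] at ht
    have : t * s ∈ Q := ht ▸ Q.zero_mem
    exact (Ideal.IsPrime.mem_or_mem inferInstance this).resolve_right hsQ
  have h1 : q ≤ Q := hs.le_of_ann_le hq hle
  exact le_antisymm (hQ.2 hq.1 h1) h1

end Groth.Agent.H8.OneDim
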