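import Mathlib

/-!
# Extending a ring map to a birational simple extension (helper8)
-/

universe u
open IsLocalRing

namespace Groth.Agent.H8.OneDim

section Extend

variable {R : Type u} [CommRing R] [IsDomain R] {D : Type u} [CommRing D] (g : R →+* D)
  (hg : ∀ r : R, r ≠ 0 → g r ∈ nonZeroDivisors D)

include hg in
/-- Let `g : R → D` send nonzero elements to nonzerodivisors, and let `γ = a / b` in the fraction
field of `R`, with `g b * d = g a` in `D`. Then `g` extends to `R[γ] → D` with `γ ↦ d`. -/
theorem exists_ringHom_adjoin (γ : FractionRing R) (a b : R) (hb : b ≠ 0)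
    (hγ : γ * algebraMap R (FractionRing R) b = algebraMap R (FractionRing R) a) (d : D)
    (hd : g b * d = g a) :
    ∃ ρ : Algebra.adjoin R {γ} →+* D,
      (∀ r : R, ρ (algebraMap R (Algebra.adjoin R {γ}) r) = g r) ∧
        ρ ⟨γ, Algebra.subset_adjoin (Set.mem_singleton γ)⟩ = d := by
  let K := FractionRing R
  let Qt := Localization (nonZeroDivisors D)
  let ι : D →+* Qt := algebraMap D Qt
  have hι : Function.Injective ι := IsLocalization.injective Qt (le_refl _)
  have hunit : ∀ y : nonZeroDivisors R, IsUnit ((ι.comp g) y) := by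
    intro y
    exact IsLocalization.map_units Qt ⟨g y, hg y (nonZeroDivisors.ne_zero y.2)⟩
  let φ : K →+* Qt := IsLocalization.lift (M := nonZeroDivisors R) (S := K) hunit
  have hφ : ∀ r : R, φ (algebraMap R K r) = ι (g r) := fun r => IsLocalization.lift_eq hunit r
  have hφγ : φ γ = ι d := by
    have h1 : φ γ * ι (g b) = ι (g b) * ι d := by
      rw [← map_mul ι, hd, ← hφ b, ← map_mul, hγ, hφ]
    have h2 : IsUnit (ι (g b)) := IsLocalization.map_units Qt ⟨g b, hg b hb⟩
    rw [mul_comm] at h1
    exact h2.mul_left_cancel h1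
  have hrange : ∀ z ∈ Algebra.adjoin R {γ}, φ z ∈ ι.range := by
    intro z hz
    induction hz using Algebra.adjoin_induction with
    | mem z hz =>
      rw [Set.mem_singleton_iff] at hz
      subst hz
      exact ⟨d, hφγ.symm⟩
    | algebraMap r => exact ⟨g r, (hφ r).symm⟩
    | add z w _ _ hz hw =>
      rw [map_add]; exact Subring.add_mem _ hz hw
    | mul z w _ _ hz hw =>
      rw [map_mul]; exact Subring.mul_mem _ hz hw
  let e : D ≃+* ι.range := RingEquiv.ofBijective ι.rangeRestrict
    ⟨fun x y h => hι (congrArg Subtype.val h), ι.rangeRestrict_surjective⟩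
  let f' : Algebra.adjoin R {γ} →+* ι.range :=
    (φ.comp (Algebra.adjoin R {γ}).val.toRingHom).codRestrict ι.range fun z => hrange z z.2
  let ρ : Algebra.adjoin R {γ} →+* D := e.symm.toRingHom.comp f'
  have hρ : ∀ z, ι (ρ z) = φ z := by
    intro z
    have : e (ρ z) = f' z := e.apply_symm_apply _
    exact congrArg Subtype.val this
  refine ⟨ρ, fun r => hι ?_, hι ?_⟩
  · rw [hρ]; exact hφ r
  · rw [hρ]; exact hφγ

end Extend

section Primary

variable {T : Type*} [CommRing T] [IsLocalRing T] [IsNoetherianRing T]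

/-- If the only prime containing the ideal `I` and the element `c` is the maximal ideal, then
`I + (c)` contains a power of the maximal ideal. -/
theorem exists_pow_le_sup_span (I : Ideal T) (c : T)
    (h : ∀ P : Ideal T, P.IsPrime → I ≤ P → c ∈ P → P = maximalIdeal T) :
    ∃ N : ℕ, (maximalIdeal T) ^ N ≤ I ⊔ Ideal.span {c} := by
  apply Ideal.exists_pow_le_of_le_radical_of_fg _ (IsNoetherian.noetherian _)
  rw [Ideal.radical_eq_sInf]
  refine le_sInf fun P hP => ?_
  obtain ⟨hle, hPp⟩ := hP
  rw [h P hPp (le_sup_left.trans hle) (hle (Ideal.mem_sup_right (Ideal.mem_span_singleton_self c)))]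

end Primary

end Groth.Agent.H8.OneDim
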