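import Mathlib

/-!
# A criterion for quasi-finiteness at a prime (helper8)
-/

universe u
open IsLocalRing

namespace Groth.Agent.H8.OneDim

section QF

variable {R : Type*} [CommRing R] [IsLocalRing R]
  {S' : Type*} [CommRing S'] [Algebra R S'] [Algebra.FiniteType R S'] [IsNoetherianRing S']
  (𝔫 : Ideal S') [𝔫.IsPrime] (hunder : 𝔫.under R = maximalIdeal R) (γ' : S') (hγ : γ' ∈ 𝔫)
  (hdecomp : ∀ z : S', ∃ (r : R) (z' : S'), z = algebraMap R S' r + γ' * z')
  (hrad : ∀ P' : Ideal S', P'.IsPrime → P' ≤ 𝔫 → (∀ r ∈ maximalIdeal R, algebraMap R S' r ∈ P') →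
    γ' ∈ P')

include hunder hγ hdecomp hrad in
theorem quasiFiniteAt_of_decomp : Algebra.QuasiFiniteAt R 𝔫 := by
  classical
  set Dn := Localization.AtPrime 𝔫
  set 𝔪D : Ideal Dn := (𝔫.under R).map (algebraMap R Dn) with h𝔪D
  set g : Dn := algebraMap S' Dn γ' with hg
  -- 9a
  have h9a : g ∈ 𝔪D.radical := by
    rw [Ideal.radical_eq_sInf, Ideal.mem_sInf]
    rintro P ⟨hle, hP⟩
    haveI := hP
    have hP' : (P.comap (algebraMap S' Dn)).IsPrime := Ideal.comap_isPrime _ _
    have hle' : P.comap (algebraMap S' Dn) ≤ 𝔫 := by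
      have h1 : P ≤ maximalIdeal Dn := le_maximalIdeal hP.ne_top
      have h2 := Ideal.comap_mono (f := algebraMap S' Dn) h1
      have h3 : (maximalIdeal Dn).comap (algebraMap S' Dn) = 𝔫 :=
        IsLocalization.AtPrime.under_maximalIdeal Dn 𝔫
      rwa [h3] at h2
    have hm : ∀ r ∈ maximalIdeal R, algebraMap R S' r ∈ P.comap (algebraMap S' Dn) := by
      intro r hr
      rw [Ideal.mem_comap, ← IsScalarTower.algebraMap_apply]
      apply hle
      apply Ideal.mem_map_of_mem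
      rw [hunder]; exact hr
    exact hrad _ hP' hle' hm
  obtain ⟨N, hN⟩ := h9a
  -- 9b
  have h9b : ∀ d : Dn, ∃ (r : R) (d' : Dn), d = algebraMap R Dn r + g * d' := by
    intro d
    obtain ⟨z, w, rfl⟩ := IsLocalization.exists_mk'_eq 𝔫.primeCompl d
    obtain ⟨rz, z', hz⟩ := hdecomp z
    obtain ⟨rw, w', hw⟩ := hdecomp (w : S')
    have hrw : IsUnit rw := by
      by_contra hnu
      have h1 : rw ∈ maximalIdeal R := (mem_maximalIdeal _).mpr hnu
      have h2 : algebraMap R S' rw ∈ 𝔫 := by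
        have : rw ∈ 𝔫.under R := by rw [hunder]; exact h1
        exact this
      apply w.2
      show (w : S') ∈ 𝔫
      rw [hw]
      exact Ideal.add_mem _ h2 (Ideal.mul_mem_right _ _ hγ)
    obtain ⟨u, hu⟩ := hrw.exists_right_inv
    refine ⟨rz * u, IsLocalization.mk' Dn (z' - algebraMap R S' (rz * u) * w') w, ?_⟩
    have hwunit : IsUnit (algebraMap S' Dn (w : S')) := IsLocalization.map_units Dn w
    apply hwunit.mul_left_injective
    simp only
    rw [IsLocalization.mk'_spec, add_mul, mul_assoc, IsLocalization.mk'_spec,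
      IsScalarTower.algebraMap_apply R S' Dn, hg, ← map_mul, ← map_mul, ← map_add]
    congr 1
    have h3 : algebraMap R S' (rz * u) * (w : S') + γ' * (z' - algebraMap R S' (rz * u) * w') =
        algebraMap R S' (rz * u) * ((w : S') - γ' * w') + γ' * z' := by ring
    rw [h3, hz]
    have h4 : (w : S') - γ' * w' = algebraMap R S' rw := by rw [hw]; ring
    rw [h4, ← map_mul]
    have h5 : rz * u * rw = rz := by rw [mul_assoc, mul_comm u rw, hu, mul_one]
    rw [h5]
  -- 9c
  have h9c : ∀ (j : ℕ) (d : Dn), ∃ (c : Fin j → R) (d' : Dn),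
      d = ∑ i : Fin j, algebraMap R Dn (c i) * g ^ (i : ℕ) + g ^ j * d' := by
    intro j
    induction j with
    | zero => intro d; exact ⟨Fin.elim0, d, by simp⟩
    | succ j ih =>
      intro d
      obtain ⟨c, d', hd⟩ := ih d
      obtain ⟨r, d'', hd'⟩ := h9b d'
      refine ⟨Fin.snoc c r, d'', ?_⟩
      rw [Fin.sum_univ_castSucc, hd, hd']
      simp only [Fin.snoc_castSucc, Fin.snoc_last, Fin.val_castSucc, Fin.val_last]
      ring
  have hfin : Module.Finite R (Dn ⧸ 𝔪D) := by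
    let φ : (Fin N → R) →ₗ[R] (Dn ⧸ 𝔪D) :=
      Fintype.linearCombination R (fun i : Fin N => Ideal.Quotient.mk 𝔪D (g ^ (i : ℕ)))
    refine Module.Finite.of_surjective φ fun dbar => ?_
    obtain ⟨d, rfl⟩ := Ideal.Quotient.mk_surjective dbar
    obtain ⟨c, d', hd⟩ := h9c N d
    refine ⟨c, ?_⟩
    rw [Fintype.linearCombination_apply, hd, map_add, map_sum]
    have h6 : Ideal.Quotient.mk 𝔪D (g ^ N * d') = 0 :=
      Ideal.Quotient.eq_zero_iff_mem.mpr (Ideal.mul_mem_right _ _ hN)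
    rw [h6, add_zero]
    refine Finset.sum_congr rfl fun i _ => ?_
    rw [← Algebra.smul_def (c i) (g ^ (i : ℕ))]
    rfl
  haveI : Algebra.QuasiFinite R (Dn ⧸ 𝔪D) := inferInstance
  haveI : Algebra.WeaklyQuasiFiniteAt R 𝔫 := (Algebra.weaklyQuasiFiniteAt_iff 𝔫).mpr this
  exact Algebra.QuasiFiniteAt.of_weaklyQuasiFiniteAt 𝔫

end QF

end Groth.Agent.H8.OneDim
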