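import Mathlib
import Groth.Agent.Lib.Helper8.Hens.QuasiFiniteSplit
import Groth.Agent.Lib.Helper8.OneDim.QF
import Groth.Agent.Lib.Helper8.OneDim.Extend

/-!
# Birational extensions of henselian local domains with a pole-type element (helper8)
-/

universe u
open IsLocalRing

namespace Groth.Agent.H8.OneDim

section Abs

variable {R : Type u} [CommRing R] [IsDomain R] [HenselianLocalRing R] [IsNoetherianRing R]
  {S' : Type u} [CommRing S'] [IsDomain S'] [Algebra R S'] [Algebra.FiniteType R S']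
  (hinj : Function.Injective (algebraMap R S')) (γ' : S')
  (hdecomp : ∀ z : S', ∃ (r : R) (z' : S'), z = algebraMap R S' r + γ' * z')
  (n : ℕ) (hkey : ∀ y ∈ (maximalIdeal R) ^ n, ∃ r : R,
    algebraMap R S' y * (1 - γ') = algebraMap R S' r * γ')
  {D : Type u} [CommRing D] [IsLocalRing D] (ρ : S' →+* D)
  (hloc : IsLocalHom (ρ.comp (algebraMap R S'))) (hργ : ρ γ' ∈ maximalIdeal D)
  (x : R) (hx : x ∈ maximalIdeal R) (hx0 : x ≠ 0)

include hinj hdecomp hkey hloc hργ hx hx0 in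
theorem finite_of_pole :
    Module.Finite R S' ∧ ∃ 𝔫 : Ideal S', 𝔫.IsPrime ∧ γ' ∈ 𝔫 ∧
      (∀ q' : Ideal S', q'.IsPrime → q'.LiesOver (maximalIdeal R) → q' = 𝔫) ∧
      (∀ 𝔭 : Ideal R, 𝔭.IsPrime → 𝔭 ≠ ⊥ → 𝔭 = maximalIdeal R) := by
  classical
  haveI : IsNoetherianRing S' := Algebra.FiniteType.isNoetherianRing R S'
  set 𝔫 : Ideal S' := (maximalIdeal D).comap ρ with h𝔫
  haveI h𝔫prime : 𝔫.IsPrime := Ideal.comap_isPrime _ _
  have hγ𝔫 : γ' ∈ 𝔫 := hργ
  have hm𝔫 : ∀ r ∈ maximalIdeal R, algebraMap R S' r ∈ 𝔫 := by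
    intro r hr
    show ρ (algebraMap R S' r) ∈ maximalIdeal D
    rw [mem_maximalIdeal, mem_nonunits_iff] at hr ⊢
    intro hu
    exact hr (hloc.map_nonunit r hu)
  have hunder : 𝔫.under R = maximalIdeal R := by
    apply le_antisymm
    · exact le_maximalIdeal (Ideal.IsPrime.ne_top (Ideal.comap_isPrime _ _))
    · intro r hr
      exact hm𝔫 r hr
  haveI hlies : 𝔫.LiesOver (maximalIdeal R) := ⟨hunder.symm⟩
  have h1γ : ∀ P' : Ideal S', P'.IsPrime → P' ≤ 𝔫 → 1 - γ' ∉ P' := by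
    intro P' _ hle h
    have h1 : (1 : S') ∈ 𝔫 := by
      have := Ideal.add_mem _ (hle h) hγ𝔫
      rwa [sub_add_cancel] at this
    exact Ideal.IsPrime.ne_top h𝔫prime ((Ideal.eq_top_iff_one _).mpr h1)
  -- primes inside `𝔫` containing `γ'` contain `m`
  have hmP : ∀ P' : Ideal S', P'.IsPrime → P' ≤ 𝔫 → γ' ∈ P' →
      ∀ r ∈ maximalIdeal R, algebraMap R S' r ∈ P' := by
    intro P' hP' hle hγP r hr
    obtain ⟨r', hr'⟩ := hkey (r ^ n) (Ideal.pow_mem_pow hr n)
    have h2 : algebraMap R S' (r ^ n) * (1 - γ') ∈ P' := by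
      rw [hr']; exact Ideal.mul_mem_left _ _ hγP
    have h3 := (hP'.mem_or_mem h2).resolve_right (h1γ P' hP' hle)
    rw [map_pow] at h3
    exact hP'.mem_of_pow_mem n h3
  have h𝔫le : ∀ P' : Ideal S', P'.IsPrime → P' ≤ 𝔫 → γ' ∈ P' → 𝔫 ≤ P' := by
    intro P' hP' hle hγP z hz
    obtain ⟨r, z', rfl⟩ := hdecomp z
    have hr : r ∈ maximalIdeal R := by
      have h4 : algebraMap R S' r ∈ 𝔫 := by
        have := Ideal.sub_mem _ hz (Ideal.mul_mem_right z' _ hγ𝔫)
        rwa [add_sub_cancel_right] at this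
      have : r ∈ 𝔫.under R := h4
      rwa [hunder] at this
    exact Ideal.add_mem _ (hmP P' hP' hle hγP r hr) (Ideal.mul_mem_right _ _ hγP)
  have hmin : 𝔫 ∈ (Ideal.span {γ'}).minimalPrimes := by
    refine ⟨⟨h𝔫prime, (Ideal.span_singleton_le_iff_mem _).mpr hγ𝔫⟩, fun P' hP' hle => ?_⟩
    exact h𝔫le P' hP'.1 hle ((Ideal.span_singleton_le_iff_mem _).mp hP'.2)
  have hheight : 𝔫.height ≤ 1 :=
    Ideal.height_le_one_of_isPrincipal_of_mem_minimalPrimes _ _ hmin
  have hbelow : ∀ P' : Ideal S', P'.IsPrime → P' ≤ 𝔫 → P' ≠ ⊥ → P' = 𝔫 := by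
    intro P' hP' hle hne
    by_contra hne'
    have hlt : P' < 𝔫 := lt_of_le_of_ne hle hne'
    have h5 := Ideal.height_add_one_le_of_lt_of_isPrime hlt
    have h6 : P'.height = 0 := by
      have h7 : P'.height + 1 ≤ 1 := h5.trans hheight
      have h8 : P'.height < 1 := (ENat.add_one_le_iff' ENat.one_ne_top).mp h7
      exact Order.lt_one_iff.mp h8
    exact hne (Ideal.height_eq_zero_iff_eq_bot.mp h6)
  have hx' : algebraMap R S' x ≠ 0 := fun h => hx0 (hinj (h.trans (map_zero _).symm))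
  haveI hQF : Algebra.QuasiFiniteAt R 𝔫 := by
    apply quasiFiniteAt_of_decomp 𝔫 hunder γ' hγ𝔫 hdecomp
    intro P' hP' hle hm
    have hne : P' ≠ ⊥ := by
      intro h
      have := hm x hx
      rw [h, Ideal.mem_bot] at this
      exact hx' this
    rw [hbelow P' hP' hle hne]; exact hγ𝔫
  obtain ⟨e, he, heq, hfin, huniq⟩ := Hens.exists_idempotent_of_quasiFiniteAt R S' 𝔫
  have he1 : e = 1 := by
    rcases (IsIdempotentElem.iff_eq_zero_or_one).mp he with h | h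
    · exact absurd (h ▸ 𝔫.zero_mem) heq
    · exact h
  subst he1
  have hfinS : Module.Finite R S' := by
    haveI := hfin
    refine Module.Finite.of_injective
      (Ideal.Quotient.mkₐ R (Ideal.span ({1 - 1} : Set S'))).toLinearMap ?_
    rw [← LinearMap.ker_eq_bot, LinearMap.ker_eq_bot']
    intro z hz
    have h1 : z ∈ Ideal.span ({1 - 1} : Set S') := Ideal.Quotient.eq_zero_iff_mem.mp hz
    rw [sub_self, Ideal.span_singleton_zero] at h1
    exact h1
  have huniq' : ∀ q' : Ideal S', q'.IsPrime → q'.LiesOver (maximalIdeal R) → q' = 𝔫 :=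
    fun q' hq' hl => huniq q' hq' hl (fun h1 => hq'.ne_top ((Ideal.eq_top_iff_one _).mpr h1))
  refine ⟨hfinS, 𝔫, h𝔫prime, hγ𝔫, huniq', fun 𝔭 h𝔭 h𝔭0 => ?_⟩
  haveI : Algebra.IsIntegral R S' := Algebra.IsIntegral.of_finite R S'
  obtain ⟨P'', -, hP''prime, hP''over⟩ :=
    Ideal.exists_ideal_over_prime_of_isIntegral 𝔭 (⊥ : Ideal S') (by
      rw [Ideal.comap_bot_of_injective _ hinj]; exact bot_le)
  obtain ⟨M, hM, hle⟩ := Ideal.exists_le_maximal P'' hP''prime.ne_top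
  haveI := hM
  have hMc : (M.comap (algebraMap R S')).IsMaximal :=
    Ideal.isMaximal_comap_of_isIntegral_of_isMaximal M
  have hMlies : M.LiesOver (maximalIdeal R) := ⟨(IsLocalRing.eq_maximalIdeal hMc).symm⟩
  have hM𝔫 : M = 𝔫 := huniq' M hM.isPrime hMlies
  have hP''ne : P'' ≠ ⊥ := by
    intro h
    apply h𝔭0
    rw [← hP''over, h, Ideal.comap_bot_of_injective _ hinj]
  have hP''𝔫 : P'' = 𝔫 := hbelow P'' hP''prime (hM𝔫 ▸ hle) hP''ne
  rw [← hP''over, hP''𝔫]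
  exact hunder

include hinj hdecomp hkey hloc hργ hx hx0 in
theorem false_of_two_points {D' : Type u} [CommRing D'] [IsLocalRing D'] (ρ' : S' →+* D')
    (hloc' : IsLocalHom (ρ'.comp (algebraMap R S'))) (hργ' : ρ' γ' - 1 ∈ maximalIdeal D') :
    False := by
  obtain ⟨-, 𝔫, h𝔫, hγ𝔫, huniq, -⟩ :=
    finite_of_pole hinj γ' hdecomp n hkey ρ hloc hργ x hx hx0
  set 𝔫' : Ideal S' := (maximalIdeal D').comap ρ' with h𝔫'
  haveI h𝔫'prime : 𝔫'.IsPrime := Ideal.comap_isPrime _ _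
  have hunder : 𝔫'.under R = maximalIdeal R := by
    apply le_antisymm
    · exact le_maximalIdeal (Ideal.IsPrime.ne_top (Ideal.comap_isPrime _ _))
    · intro r hr
      show ρ' (algebraMap R S' r) ∈ maximalIdeal D'
      rw [mem_maximalIdeal, mem_nonunits_iff] at hr ⊢
      intro hu
      exact hr (hloc'.map_nonunit r hu)
  have h1 : 𝔫' = 𝔫 := huniq 𝔫' h𝔫'prime ⟨hunder.symm⟩
  have h2 : ρ' γ' ∈ maximalIdeal D' := by
    have : γ' ∈ 𝔫' := h1 ▸ hγ𝔫
    exact this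
  have h3 : (1 : D') ∈ maximalIdeal D' := by
    have := Ideal.sub_mem _ h2 hργ'
    rwa [sub_sub_cancel] at this
  exact (Ideal.IsPrime.ne_top inferInstance) ((Ideal.eq_top_iff_one _).mpr h3)

end Abs

section Concrete

variable {R : Type u} [CommRing R] [IsDomain R] [HenselianLocalRing R] [IsNoetherianRing R]
  (x : R) (hx : x ∈ maximalIdeal R) (hx0 : x ≠ 0) (a b : R) (hb : b ≠ 0)
  (n : ℕ) (hn : ∀ y ∈ (maximalIdeal R) ^ n, ∃ r : R, y * (b - a) = r * a)
  {D : Type u} [CommRing D] [IsLocalRing D] (g : R →+* D) [IsLocalHom g]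
  (hg : ∀ r : R, r ≠ 0 → g r ∈ nonZeroDivisors D) (d : D) (hd : g b * d = g a)
  (hdm : d ∈ maximalIdeal D)

include hx hx0 hb hn hg hd hdm in
/-- Main consequence of a pole-type element `a / b` with a local point where it vanishes. -/
theorem pole_main :
    (∀ 𝔭 : Ideal R, 𝔭.IsPrime → 𝔭 ≠ ⊥ → 𝔭 = maximalIdeal R) ∧
      ∀ {D' : Type u} [CommRing D'] [IsLocalRing D'] (g' : R →+* D') [IsLocalHom g']
        (_ : ∀ r : R, r ≠ 0 → g' r ∈ nonZeroDivisors D') (d' : D') (_ : g' b * d' = g' a)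
        (_ : d' - 1 ∈ maximalIdeal D'), False := by
  classical
  let K := FractionRing R
  have hbK : algebraMap R K b ≠ 0 := by
    rw [Ne, map_eq_zero_iff _ (IsFractionRing.injective R K)]; exact hb
  let γ : K := algebraMap R K a / algebraMap R K b
  have hγ : γ * algebraMap R K b = algebraMap R K a := div_mul_cancel₀ _ hbK
  let γ' : Algebra.adjoin R {γ} := ⟨γ, Algebra.subset_adjoin (Set.mem_singleton γ)⟩
  haveI : Algebra.FiniteType R (Algebra.adjoin R {γ}) :=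
    (Subalgebra.fg_iff_finiteType _).mp ⟨{γ}, by simp⟩
  have hinj : Function.Injective (algebraMap R (Algebra.adjoin R {γ})) := by
    intro r₁ r₂ h
    exact IsFractionRing.injective R K (congrArg Subtype.val h)
  have hdecomp : ∀ z : Algebra.adjoin R {γ}, ∃ (r : R) (z' : Algebra.adjoin R {γ}),
      z = algebraMap R _ r + γ' * z' := by
    rintro ⟨z, hz⟩
    induction hz using Algebra.adjoin_induction with
    | mem z hz =>
      rw [Set.mem_singleton_iff] at hz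
      subst hz
      exact ⟨0, 1, by simp [γ']⟩
    | algebraMap r => exact ⟨r, 0, by simp⟩
    | add z w hz hw h₁ h₂ =>
      obtain ⟨r₁, z₁, h₁⟩ := h₁
      obtain ⟨r₂, z₂, h₂⟩ := h₂
      refine ⟨r₁ + r₂, z₁ + z₂, ?_⟩
      have : (⟨z + w, add_mem hz hw⟩ : Algebra.adjoin R {γ}) = ⟨z, hz⟩ + ⟨w, hw⟩ := rfl
      rw [this, h₁, h₂, map_add]; ring
    | mul z w hz hw h₁ h₂ =>
      obtain ⟨r₁, z₁, h₁⟩ := h₁
      obtain ⟨r₂, z₂, h₂⟩ := h₂
      refine ⟨r₁ * r₂, algebraMap R _ r₁ * z₂ + z₁ * algebraMap R _ r₂ + γ' * z₁ * z₂, ?_⟩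
      have : (⟨z * w, mul_mem hz hw⟩ : Algebra.adjoin R {γ}) = ⟨z, hz⟩ * ⟨w, hw⟩ := rfl
      rw [this, h₁, h₂, map_mul]; ring
  have hkey : ∀ y ∈ (maximalIdeal R) ^ n, ∃ r : R,
      algebraMap R (Algebra.adjoin R {γ}) y * (1 - γ') = algebraMap R _ r * γ' := by
    intro y hy
    obtain ⟨r, hr⟩ := hn y hy
    refine ⟨r, Subtype.ext ?_⟩
    show algebraMap R K y * (1 - γ) = algebraMap R K r * γ
    have h1 : (1 - γ) * algebraMap R K b = algebraMap R K (b - a) := by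
      rw [sub_mul, one_mul, hγ, map_sub]
    have h2 : algebraMap R K y * (1 - γ) * algebraMap R K b =
        algebraMap R K r * γ * algebraMap R K b := by
      rw [mul_assoc, h1, ← map_mul, hr, map_mul, mul_assoc, hγ]
    exact mul_right_cancel₀ hbK h2
  obtain ⟨ρ, hρR, hργ⟩ := exists_ringHom_adjoin g hg γ a b hb hγ d hd
  have hcomp : ρ.comp (algebraMap R (Algebra.adjoin R {γ})) = g := RingHom.ext hρR
  have hloc : IsLocalHom (ρ.comp (algebraMap R (Algebra.adjoin R {γ}))) := hcomp ▸ inferInstance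
  have hργ' : ρ γ' ∈ maximalIdeal D := hργ ▸ hdm
  refine ⟨(finite_of_pole hinj γ' hdecomp n hkey ρ hloc hργ' x hx hx0).2.choose_spec.2.2.2, ?_⟩
  intro D' _ _ g' _ hg' d' hd' hdm'
  obtain ⟨ρ', hρR', hργ''⟩ := exists_ringHom_adjoin g' hg' γ a b hb hγ d' hd'
  have hcomp' : ρ'.comp (algebraMap R (Algebra.adjoin R {γ})) = g' := RingHom.ext hρR'
  have hloc' : IsLocalHom (ρ'.comp (algebraMap R (Algebra.adjoin R {γ}))) :=
    hcomp' ▸ inferInstance
  exact false_of_two_points hinj γ' hdecomp n hkey ρ hloc hργ' x hx hx0 ρ' hloc'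
    (by rw [show ρ' γ' = d' from hργ'']; exact hdm')

end Concrete

end Groth.Agent.H8.OneDim
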