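import Mathlib
import Groth.Agent.Lib.Helper8.OneDim.Pole
import Groth.Agent.Lib.Helper8.OneDim.Basic
import Groth.Agent.Lib.Helper8.OneDim.MaxAnn
import Groth.Agent.Lib.Helper8.Brnch.EtaleCount

/-!
# One-dimensional formal branches of henselian local domains are unique (helper8)
-/

universe u
open IsLocalRing

namespace Groth.Agent.H8.OneDim

section Quot

variable {T : Type*} [CommRing T] [IsLocalRing T]

theorem mk_mem_maximalIdeal (I : Ideal T) [IsLocalRing (T ⧸ I)] {t : T} (ht : t ∈ maximalIdeal T) :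
    Ideal.Quotient.mk I t ∈ maximalIdeal (T ⧸ I) := by
  haveI : IsLocalHom (Ideal.Quotient.mk I) := .of_surjective _ Ideal.Quotient.mk_surjective
  rw [mem_maximalIdeal, mem_nonunits_iff] at ht ⊢
  exact fun h => ht (isUnit_of_map_unit (Ideal.Quotient.mk I) t h)

theorem isUnit_one_add {t : T} (ht : t ∈ maximalIdeal T) : IsUnit (1 + t) := by
  by_contra h
  have h1 : 1 + t ∈ maximalIdeal T := (mem_maximalIdeal _).mpr h
  have h2 : (1 : T) ∈ maximalIdeal T := by
    have := Ideal.sub_mem _ h1 ht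
    rwa [add_sub_cancel_right] at this
  exact (Ideal.IsPrime.ne_top inferInstance) ((Ideal.eq_top_iff_one _).mpr h2)

/-- Elements of `m (I + (s))` have the form `i + s μ` with `i ∈ I`, `μ ∈ m`. -/
theorem exists_of_mem_mul_sup (I : Ideal T) (s : T) {z : T}
    (hz : z ∈ maximalIdeal T * (I ⊔ Ideal.span {s})) :
    ∃ i ∈ I, ∃ μ ∈ maximalIdeal T, z = i + s * μ := by
  refine Submodule.mul_induction_on hz ?_ ?_
  · intro m' hm' w hw
    obtain ⟨i, hi, w', hw', rfl⟩ := Submodule.mem_sup.mp hw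
    obtain ⟨t, rfl⟩ := Ideal.mem_span_singleton'.mp hw'
    exact ⟨m' * i, Ideal.mul_mem_left _ _ hi, m' * t, Ideal.mul_mem_right _ _ hm', by ring⟩
  · rintro z₁ z₂ ⟨i₁, hi₁, μ₁, hμ₁, rfl⟩ ⟨i₂, hi₂, μ₂, hμ₂, rfl⟩
    exact ⟨i₁ + i₂, Ideal.add_mem _ hi₁ hi₂, μ₁ + μ₂, Ideal.add_mem _ hμ₁ hμ₂, by ring⟩

end Quot

section Main

variable {R T : Type u} [CommRing R] [IsDomain R] [HenselianLocalRing R] [IsNoetherianRing R]
  [CommRing T] [IsLocalRing T] [IsNoetherianRing T] [Algebra R T] [Module.Flat R T]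
  [IsLocalHom (algebraMap R T)]
  (hm : (maximalIdeal R).map (algebraMap R T) = maximalIdeal T)
  (hres : ∀ t : T, ∃ r : R, t - algebraMap R T r ∈ maximalIdeal T)
  {q : Ideal T} (hq : q ∈ minimalPrimes T)
  (hdim : ∀ P : Ideal T, P.IsPrime → q ≤ P → P = q ∨ P = maximalIdeal T)
  (hne : q ≠ maximalIdeal T)

include hm hres hq hdim hne in
/-- Let `R` be a henselian Noetherian local domain and `R → T` a flat local homomorphism of
Noetherian local rings with `m_R T = m_T` and trivial residue field extension (e.g. the completion).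
If `T` has a minimal prime `q` with `dim T/q = 1`, then `q` is the only minimal prime of `T`. -/
theorem minimalPrimes_eq_singleton : minimalPrimes T = {q} := by
  classical
  haveI hqprime : q.IsPrime := hq.1.1
  have hmT : ∀ r ∈ maximalIdeal R, algebraMap R T r ∈ maximalIdeal T := fun r hr =>
    hm ▸ Ideal.mem_map_of_mem _ hr
  -- `m_R ≠ 0`
  have hmR : maximalIdeal R ≠ ⊥ := by
    intro h
    rw [h, Ideal.map_bot] at hm
    apply hne
    rw [← hm]
    exact le_bot_iff.mp (hm ▸ le_maximalIdeal hqprime.ne_top)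
  obtain ⟨x, hx, hx0⟩ := Submodule.exists_mem_ne_zero_of_ne_bot hmR
  -- minimal primes of `T` contract to zero
  have hcontr : ∀ Q ∈ minimalPrimes T, ∀ r : R, r ≠ 0 → algebraMap R T r ∉ Q := by
    intro Q hQ r hr hmem
    have h1 := Brnch.under_mem_minimalPrimes_of_flat (R := R) hQ
    rw [IsDomain.minimalPrimes_eq_singleton_bot, Set.mem_singleton_iff] at h1
    have h2 : r ∈ Q.under R := hmem
    rw [h1, Ideal.mem_bot] at h2
    exact hr h2
  have hxq : ∀ r : R, r ≠ 0 → algebraMap R T r ∉ q := hcontr q hq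
  -- the element `s`
  obtain ⟨s, hs_notMem, hs_max⟩ := exists_maximal_ann q
    (fun h => hqprime.ne_top ((Ideal.eq_top_iff_one _).mpr h))
  have hs : IsMaxAnn q s := ⟨hs_notMem, hs_max⟩
  set I := ann s with hI
  have hIq : I ≤ q := hs.ann_le
  have hD1 : ∀ c : T, c ∉ q → ∃ N : ℕ, (maximalIdeal T) ^ N ≤ I ⊔ Ideal.span {c} := by
    intro c hc
    refine exists_pow_le_sup_span I c fun P hP hIP hcP => ?_
    haveI := hP
    rcases hdim P hP (hs.le_of_ann_le hq hIP) with h | h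
    · exact absurd (h ▸ hcP) hc
    · exact h
  obtain ⟨k₁, hk₁⟩ := hD1 s hs.notMem
  set k := k₁ + 1 with hk
  set X : T := algebraMap R T x with hX
  have hXm : X ∈ maximalIdeal T := hmT x hx
  -- `X^k = s c₀ + i`
  obtain ⟨i₀, hi₀, c₀, hc₀, hXk⟩ : ∃ i₀ ∈ I, ∃ c₀ ∈ maximalIdeal T, X ^ k = i₀ + s * c₀ := by
    apply exists_of_mem_mul_sup
    rw [hk, pow_succ']
    exact Ideal.mul_mem_mul hXm (hk₁ (Ideal.pow_mem_pow hXm k₁))
  have hXkq : X ^ k ∉ q := fun h => hxq x hx0 (hqprime.mem_of_pow_mem k h)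
  obtain ⟨n, hn⟩ := hD1 (X ^ k) hXkq
  -- generators of `m_R^n`
  obtain ⟨r, y, hy⟩ := Submodule.fg_iff_exists_fin_generating_family.mp
    (IsNoetherian.noetherian ((maximalIdeal R) ^ n))
  have hy_mem : ∀ i, y i ∈ (maximalIdeal R) ^ n := fun i =>
    hy ▸ Submodule.subset_span (Set.mem_range_self i)
  have hs_colon : ∀ i, ∃ t : T, algebraMap R T (x ^ k) * t = s * algebraMap R T (y i) := by
    intro i
    have h1 : algebraMap R T (y i) ∈ (maximalIdeal T) ^ n := by
      rw [← hm, ← Ideal.map_pow]; exact Ideal.mem_map_of_mem _ (hy_mem i)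
    obtain ⟨i', hi', w, hw, hsum⟩ := Submodule.mem_sup.mp (hn h1)
    obtain ⟨t, rfl⟩ := Ideal.mem_span_singleton'.mp hw
    refine ⟨s * t, ?_⟩
    rw [← hsum, map_pow, mul_add]
    have : s * i' = 0 := by rw [mul_comm]; exact mem_ann.mp hi'
    rw [this, zero_add]; ring
  -- the key construction
  have key : ∀ M₀ : ℕ, ∃ σ₀ : R, s - algebraMap R T σ₀ ∈ (maximalIdeal T) ^ M₀ ∧
      (∀ 𝔭 : Ideal R, 𝔭.IsPrime → 𝔭 ≠ ⊥ → 𝔭 = maximalIdeal R) ∧
      ∀ {D' : Type u} [CommRing D'] [IsLocalRing D'] (g' : R →+* D') [IsLocalHom g']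
        (_ : ∀ r : R, r ≠ 0 → g' r ∈ nonZeroDivisors D') (d' : D')
        (_ : g' (x ^ k + σ₀) * d' = g' (x ^ k)) (_ : d' - 1 ∈ maximalIdeal D'), False := by
    intro M₀
    set M := max M₀ k with hM
    obtain ⟨σ₀, hσcolon, hσs⟩ := exists_approx_colon y (x ^ k) ((maximalIdeal T) ^ M)
      (exists_sub_mem_pow hm hres M) s hs_colon
    have hσM₀ : s - algebraMap R T σ₀ ∈ (maximalIdeal T) ^ M₀ :=
      Ideal.pow_le_pow_right (le_max_left M₀ k) hσs
    refine ⟨σ₀, hσM₀, ?_⟩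
    -- colon property on all of `m^n`
    have hcolon : ∀ z ∈ (maximalIdeal R) ^ n, ∃ r' : R, z * (x ^ k + σ₀ - x ^ k) = r' * x ^ k := by
      intro z hz
      rw [← hy] at hz
      rw [add_sub_cancel_left]
      induction hz using Submodule.span_induction with
      | mem z hz =>
        obtain ⟨i, rfl⟩ := hz
        obtain ⟨r', hr'⟩ := hσcolon i
        exact ⟨r', by rw [← hr']; ring⟩
      | zero => exact ⟨0, by simp⟩
      | add z₁ z₂ _ _ h₁ h₂ =>
        obtain ⟨r₁, h₁⟩ := h₁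
        obtain ⟨r₂, h₂⟩ := h₂
        exact ⟨r₁ + r₂, by rw [add_mul, add_mul, h₁, h₂]⟩
      | smul c z _ h =>
        obtain ⟨r', h⟩ := h
        exact ⟨c * r', by rw [smul_eq_mul, mul_assoc, h, mul_assoc]⟩
    -- `σ₀ = s (1 + μ) + i₂`
    obtain ⟨i₂, hi₂, μ, hμ, hσeq⟩ : ∃ i₂ ∈ I, ∃ μ ∈ maximalIdeal T,
        algebraMap R T σ₀ - s = i₂ + s * μ := by
      apply exists_of_mem_mul_sup
      have h1 : algebraMap R T σ₀ - s ∈ (maximalIdeal T) ^ k := by
        have := Ideal.pow_le_pow_right (le_max_right M₀ k) hσs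
        rw [← neg_sub]; exact Ideal.neg_mem_iff _ |>.mpr this
      rw [hk, pow_succ'] at h1
      exact Ideal.mul_mono_right hk₁ h1
    set u' : T := 1 + (c₀ + μ) with hu'
    have hu'unit : IsUnit u' := isUnit_one_add (Ideal.add_mem _ hc₀ hμ)
    obtain ⟨v, hv⟩ := hu'unit.exists_right_inv
    -- the quotient `T ⧸ I`
    have hItop : I ≠ ⊤ := fun h => hqprime.ne_top (top_le_iff.mp (h ▸ hIq))
    haveI : Nontrivial (T ⧸ I) := Ideal.Quotient.nontrivial_iff.mpr hItop
    haveI : IsLocalRing (T ⧸ I) :=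
      IsLocalRing.of_surjective' (Ideal.Quotient.mk I) Ideal.Quotient.mk_surjective
    let g : R →+* T ⧸ I := (Ideal.Quotient.mk I).comp (algebraMap R T)
    haveI : IsLocalHom (Ideal.Quotient.mk I) := .of_surjective _ Ideal.Quotient.mk_surjective
    haveI : IsLocalHom g := RingHom.isLocalHom_comp _ _
    have hg : ∀ r : R, r ≠ 0 → g r ∈ nonZeroDivisors (T ⧸ I) := by
      intro r hr
      rw [mem_nonZeroDivisors_iff_right]
      intro z hz
      obtain ⟨t, rfl⟩ := Ideal.Quotient.mk_surjective z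
      have h1 : algebraMap R T r * t ∈ I := by
        rw [mul_comm]
        exact Ideal.Quotient.eq_zero_iff_mem.mp (by rw [map_mul]; exact hz)
      exact Ideal.Quotient.eq_zero_iff_mem.mpr (hs.mem_of_mul_mem (hxq r hr) h1)
    have hbT : algebraMap R T (x ^ k + σ₀) = s * u' + (i₀ + i₂) := by
      have : algebraMap R T σ₀ = s + (i₂ + s * μ) := by rw [← hσeq]; ring
      rw [map_add, map_pow, ← hX, hXk, this, hu']; ring
    have haT : algebraMap R T (x ^ k) = s * c₀ + i₀ := by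
      rw [map_pow, ← hX, hXk]; ring
    have hmk0 : ∀ i ∈ I, Ideal.Quotient.mk I i = 0 := fun i hi =>
      Ideal.Quotient.eq_zero_iff_mem.mpr hi
    have hgb : g (x ^ k + σ₀) = Ideal.Quotient.mk I s * Ideal.Quotient.mk I u' := by
      show Ideal.Quotient.mk I (algebraMap R T (x ^ k + σ₀)) = _
      rw [hbT, map_add, map_mul, hmk0 _ (Ideal.add_mem _ hi₀ hi₂), add_zero]
    have hga : g (x ^ k) = Ideal.Quotient.mk I s * Ideal.Quotient.mk I c₀ := by
      show Ideal.Quotient.mk I (algebraMap R T (x ^ k)) = _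
      rw [haT, map_add, map_mul, hmk0 _ hi₀, add_zero]
    have hd : g (x ^ k + σ₀) * Ideal.Quotient.mk I (c₀ * v) = g (x ^ k) := by
      rw [hgb, hga, mul_assoc, ← map_mul, ← map_mul, ← map_mul]
      congr 2
      rw [mul_comm c₀ v, ← mul_assoc, hv, one_mul]
    have hdm : Ideal.Quotient.mk I (c₀ * v) ∈ maximalIdeal (T ⧸ I) :=
      mk_mem_maximalIdeal I (Ideal.mul_mem_right _ _ hc₀)
    have hb : x ^ k + σ₀ ≠ 0 := by
      intro h
      have h1 : Ideal.Quotient.mk I s * Ideal.Quotient.mk I u' = 0 := by rw [← hgb, h, map_zero]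
      have h2 : Ideal.Quotient.mk I s = 0 := by
        have := congrArg (· * Ideal.Quotient.mk I v) h1
        simp only [zero_mul] at this
        rwa [mul_assoc, ← map_mul, hv, map_one, mul_one] at this
      exact hs.notMem (hIq (Ideal.Quotient.eq_zero_iff_mem.mp h2))
    exact pole_main x hx hx0 (x ^ k) (x ^ k + σ₀) hb n hcolon g hg _ hd hdm
  obtain ⟨-, -, hdimR, -⟩ := key 0
  ext Q
  rw [Set.mem_singleton_iff]
  refine ⟨fun hQ => ?_, fun h => h ▸ hq⟩
  by_contra hQq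
  haveI hQprime : Q.IsPrime := hQ.1.1
  have hsQ : s ∈ Q := hs.mem_of_ne hq hQ hQq
  have hQtop : ∀ P : Ideal T, P.IsPrime → Q ≤ P → X ^ (k + 1) ∈ P → P = maximalIdeal T := by
    intro P hP _ hXP
    haveI := hP
    have hXP' : X ∈ P := hP.mem_of_pow_mem _ hXP
    have h1 : (P.comap (algebraMap R T)) = maximalIdeal R := by
      apply hdimR _ (Ideal.comap_isPrime _ _)
      intro h
      have : x ∈ P.comap (algebraMap R T) := hXP'
      rw [h, Ideal.mem_bot] at this
      exact hx0 this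
    have h2 : maximalIdeal T ≤ P := by
      rw [← hm, Ideal.map_le_iff_le_comap, h1]
    exact (IsLocalRing.eq_maximalIdeal ((maximalIdeal.isMaximal T).eq_of_le hP.ne_top h2 ▸
      maximalIdeal.isMaximal T))
  obtain ⟨MQ, hMQ⟩ := exists_pow_le_sup_span Q (X ^ (k + 1)) hQtop
  obtain ⟨σ₀, hσ, -, hno⟩ := key MQ
  haveI : Nontrivial (T ⧸ Q) := Ideal.Quotient.nontrivial_iff.mpr hQprime.ne_top
  haveI : IsLocalRing (T ⧸ Q) :=
    IsLocalRing.of_surjective' (Ideal.Quotient.mk Q) Ideal.Quotient.mk_surjective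
  let g' : R →+* T ⧸ Q := (Ideal.Quotient.mk Q).comp (algebraMap R T)
  haveI : IsLocalHom (Ideal.Quotient.mk Q) := .of_surjective _ Ideal.Quotient.mk_surjective
  haveI : IsLocalHom g' := RingHom.isLocalHom_comp _ _
  haveI : IsDomain (T ⧸ Q) := Ideal.Quotient.isDomain Q
  have hg' : ∀ r : R, r ≠ 0 → g' r ∈ nonZeroDivisors (T ⧸ Q) := by
    intro r hr
    apply mem_nonZeroDivisors_of_ne_zero
    intro h
    exact hcontr Q hQ r hr (Ideal.Quotient.eq_zero_iff_mem.mp h)
  -- `σ₀ ≡ X^(k+1) w` mod `Q`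
  obtain ⟨j, hj, w', hw', hsum⟩ := Submodule.mem_sup.mp (hMQ hσ)
  obtain ⟨w, rfl⟩ := Ideal.mem_span_singleton'.mp hw'
  have hσT : algebraMap R T σ₀ = (s - j) - w * X ^ (k + 1) := by linear_combination hsum
  have hu : IsUnit (1 - X * w) := by
    have := isUnit_one_add (t := -(X * w)) (Ideal.neg_mem_iff _ |>.mpr (Ideal.mul_mem_right _ _ hXm))
    rwa [← sub_eq_add_neg] at this
  obtain ⟨v, hv⟩ := hu.exists_right_inv
  have hmk0 : ∀ i ∈ Q, Ideal.Quotient.mk Q i = 0 := fun i hi =>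
    Ideal.Quotient.eq_zero_iff_mem.mpr hi
  have hgb : g' (x ^ k + σ₀) = Ideal.Quotient.mk Q (X ^ k) * Ideal.Quotient.mk Q (1 - X * w) := by
    show Ideal.Quotient.mk Q (algebraMap R T (x ^ k + σ₀)) = _
    rw [map_add, map_pow, ← hX, hσT, ← map_mul]
    have : X ^ k + (s - j - w * X ^ (k + 1)) = X ^ k * (1 - X * w) + (s - j) := by ring
    rw [this, map_add, hmk0 _ (Ideal.sub_mem _ hsQ hj), add_zero]
  have hga : g' (x ^ k) = Ideal.Quotient.mk Q (X ^ k) := by
    show Ideal.Quotient.mk Q (algebraMap R T (x ^ k)) = _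
    rw [map_pow]
  have hd' : g' (x ^ k + σ₀) * Ideal.Quotient.mk Q v = g' (x ^ k) := by
    rw [hgb, hga, mul_assoc, ← map_mul, hv, map_one, mul_one]
  have hdm' : Ideal.Quotient.mk Q v - 1 ∈ maximalIdeal (T ⧸ Q) := by
    have h1 : v - 1 = X * w * v := by
      have : (1 - X * w) * v = 1 := hv
      linear_combination this
    rw [← map_one (Ideal.Quotient.mk Q), ← map_sub, h1]
    exact mk_mem_maximalIdeal Q (Ideal.mul_mem_right _ _ (Ideal.mul_mem_right _ _ hXm))
  exact hno g' hg' _ hd' hdm'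

end Main

end Groth.Agent.H8.OneDim
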