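import Mathlib
import Groth.Agent.Lib.Helper8.OneDim.Main
import Groth.Agent.Lib.Helper8.Hens.QuotHens

/-!
# One-dimensional formal branches: the non-domain case (helper8)
-/

universe u
open IsLocalRing

namespace Groth.Agent.H8.OneDim

variable {S T : Type u} [CommRing S] [HenselianLocalRing S] [IsNoetherianRing S]
  [CommRing T] [IsLocalRing T] [IsNoetherianRing T] [Algebra S T] [Module.Flat S T]
  [IsLocalHom (algebraMap S T)]
  (hm : (maximalIdeal S).map (algebraMap S T) = maximalIdeal T)
  (hres : ∀ t : T, ∃ r : S, t - algebraMap S T r ∈ maximalIdeal T)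
  {q' : Ideal S} (hq'prime : q'.IsPrime) (hq' : q' ∈ minimalPrimes S) {Q : Ideal T}
  (hQ : Q ∈ (q'.map (algebraMap S T)).minimalPrimes)
  (hdim : ∀ P : Ideal T, P.IsPrime → Q ≤ P → P = Q ∨ P = maximalIdeal T)
  (hne : Q ≠ maximalIdeal T)

include hm hres hq'prime hQ hdim hne in
/-- Let `S` be a henselian Noetherian local ring, `S → T` a flat local homomorphism of Noetherian
local rings with `m_S T = m_T` and trivial residue field extension. If `q'` is a prime of `S`
and `Q` is a minimal prime over `q' T` with `dim T/Q = 1`, then `Q` is the only minimal prime over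
`q' T`. -/
theorem minimalPrimes_map_eq_singleton_of_isPrime :
    (q'.map (algebraMap S T)).minimalPrimes = {Q} := by
  haveI := hq'prime
  haveI hQprime : Q.IsPrime := hQ.1.1
  set J := q'.map (algebraMap S T) with hJ
  have hJQ : J ≤ Q := hQ.1.2
  have hJtop : J ≠ ⊤ := fun h => hQprime.ne_top (top_le_iff.mp (h ▸ hJQ))
  haveI : Nontrivial (S ⧸ q') := Ideal.Quotient.nontrivial_iff.mpr hq'prime.ne_top
  haveI : IsLocalRing (S ⧸ q') :=
    IsLocalRing.of_surjective' (Ideal.Quotient.mk q') Ideal.Quotient.mk_surjective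
  haveI : HenselianLocalRing (S ⧸ q') := Hens.henselianLocalRing_quotient q'
  haveI : Nontrivial (T ⧸ J) := Ideal.Quotient.nontrivial_iff.mpr hJtop
  haveI : IsLocalRing (T ⧸ J) :=
    IsLocalRing.of_surjective' (Ideal.Quotient.mk J) Ideal.Quotient.mk_surjective
  haveI : Module.Flat (S ⧸ q') (T ⧸ J) :=
    Module.Flat.of_linearEquiv
      (Algebra.TensorProduct.quotIdealMapEquivQuotTensor T q').toLinearEquiv
  haveI hlocS : IsLocalHom (Ideal.Quotient.mk q') := .of_surjective _ Ideal.Quotient.mk_surjective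
  haveI hlocT : IsLocalHom (Ideal.Quotient.mk J) := .of_surjective _ Ideal.Quotient.mk_surjective
  have halg : ∀ a : S, algebraMap (S ⧸ q') (T ⧸ J) (Ideal.Quotient.mk q' a) =
      Ideal.Quotient.mk J (algebraMap S T a) := fun a => rfl
  haveI : IsLocalHom (algebraMap (S ⧸ q') (T ⧸ J)) := by
    constructor
    intro z hz
    obtain ⟨a, rfl⟩ := Ideal.Quotient.mk_surjective z
    rw [halg] at hz
    have h1 : IsUnit (algebraMap S T a) := isUnit_of_map_unit (Ideal.Quotient.mk J) _ hz
    exact (isUnit_of_map_unit (algebraMap S T) _ h1).map _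
  have hmS : maximalIdeal (S ⧸ q') = (maximalIdeal S).map (Ideal.Quotient.mk q') := by
    apply le_antisymm
    · intro z hz
      obtain ⟨a, rfl⟩ := Ideal.Quotient.mk_surjective z
      apply Ideal.mem_map_of_mem
      rw [mem_maximalIdeal, mem_nonunits_iff] at hz ⊢
      exact fun h => hz (h.map _)
    · rw [Ideal.map_le_iff_le_comap]
      intro a ha
      exact mk_mem_maximalIdeal q' ha
  have hmT : maximalIdeal (T ⧸ J) = (maximalIdeal T).map (Ideal.Quotient.mk J) := by
    apply le_antisymm
    · intro z hz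
      obtain ⟨a, rfl⟩ := Ideal.Quotient.mk_surjective z
      apply Ideal.mem_map_of_mem
      rw [mem_maximalIdeal, mem_nonunits_iff] at hz ⊢
      exact fun h => hz (h.map _)
    · rw [Ideal.map_le_iff_le_comap]
      intro a ha
      exact mk_mem_maximalIdeal J ha
  have hm' : (maximalIdeal (S ⧸ q')).map (algebraMap (S ⧸ q') (T ⧸ J)) = maximalIdeal (T ⧸ J) := by
    rw [hmS, hmT, ← hm, Ideal.map_map, Ideal.map_map]
    congr 1
  have hres' : ∀ t : T ⧸ J, ∃ r : S ⧸ q', t - algebraMap (S ⧸ q') (T ⧸ J) r ∈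
      maximalIdeal (T ⧸ J) := by
    intro t
    obtain ⟨t, rfl⟩ := Ideal.Quotient.mk_surjective t
    obtain ⟨r, hr⟩ := hres t
    refine ⟨Ideal.Quotient.mk q' r, ?_⟩
    rw [halg, ← map_sub]
    exact mk_mem_maximalIdeal J hr
  -- the minimal prime `Q̄`
  rw [Ideal.minimalPrimes_eq_comap] at hQ ⊢
  obtain ⟨Qb, hQb, rfl⟩ := hQ
  have hcomap_inj : Function.Injective (Ideal.comap (Ideal.Quotient.mk J)) :=
    Ideal.comap_injective_of_surjective _ Ideal.Quotient.mk_surjective
  have hmTcomap : (maximalIdeal (T ⧸ J)).comap (Ideal.Quotient.mk J) = maximalIdeal T := by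
    haveI : ((maximalIdeal (T ⧸ J)).comap (Ideal.Quotient.mk J)).IsMaximal :=
      Ideal.comap_isMaximal_of_surjective _ Ideal.Quotient.mk_surjective
    exact IsLocalRing.eq_maximalIdeal inferInstance
  have hdim' : ∀ P : Ideal (T ⧸ J), P.IsPrime → Qb ≤ P → P = Qb ∨ P = maximalIdeal (T ⧸ J) := by
    intro P hP hle
    rcases hdim (P.comap (Ideal.Quotient.mk J)) (Ideal.comap_isPrime _ _)
      (Ideal.comap_mono hle) with h | h
    · exact Or.inl (hcomap_inj h)
    · exact Or.inr (hcomap_inj (h.trans hmTcomap.symm))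
  have hne' : Qb ≠ maximalIdeal (T ⧸ J) := by
    intro h
    exact hne (h ▸ hmTcomap)
  rw [minimalPrimes_eq_singleton hm' hres' hQb hdim' hne', Set.image_singleton]

include hm hres hq' hQ hdim hne in
/-- Let `S` be a henselian Noetherian local ring, `S → T` a flat local homomorphism of Noetherian
local rings with `m_S T = m_T` and trivial residue field extension. If `q'` is a minimal prime of `S`
and `Q` is a minimal prime over `q' T` with `dim T/Q = 1`, then `Q` is the only minimal prime over
`q' T`. -/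
theorem minimalPrimes_map_eq_singleton : (q'.map (algebraMap S T)).minimalPrimes = {Q} :=
  minimalPrimes_map_eq_singleton_of_isPrime hm hres hq'.1.1 hQ hdim hne

end Groth.Agent.H8.OneDim
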