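import Mathlib
import Groth.Agent.Lib.Helper8.OneDim.Quot
import Groth.Agent.Lib.Helper8.Brnch.FlatFibres
import Groth.Agent.Lib.Helper8.Hens.CompFlat
import Groth.Agent.Lib.Helper8.Hens.Transfer
import Groth.Agent.Lib.Helper8.Hens.Noeth

/-!
# One-dimensional formal branches: completions (helper8)
-/

universe u
open IsLocalRing

namespace Groth.Agent.H8.OneDim

/-- Unfolding `dim T/q = 1` for a prime of a local ring. -/
theorem primes_of_ringKrullDim_quotient_eq_one {T : Type*} [CommRing T] [IsLocalRing T]
    {q : Ideal T} [q.IsPrime] (h : ringKrullDim (T ⧸ q) = 1) :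
    (∀ P : Ideal T, P.IsPrime → q ≤ P → P = q ∨ P = maximalIdeal T) ∧ q ≠ maximalIdeal T := by
  constructor
  · intro P hP hle
    by_cases hPq : P = q
    · exact Or.inl hPq
    right
    haveI : Ring.KrullDimLE 1 (T ⧸ q) := Ring.krullDimLE_iff.mpr (by rw [h]; rfl)
    haveI : IsDomain (T ⧸ q) := Ideal.Quotient.isDomain q
    have hPb : (P.map (Ideal.Quotient.mk q)).IsPrime := by
      apply Ideal.map_isPrime_of_surjective Ideal.Quotient.mk_surjective
      rw [Ideal.mk_ker]; exact hle
    have hne : P.map (Ideal.Quotient.mk q) ≠ ⊥ := by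
      intro hb
      apply hPq
      apply le_antisymm _ hle
      intro t ht
      have : Ideal.Quotient.mk q t ∈ P.map (Ideal.Quotient.mk q) := Ideal.mem_map_of_mem _ ht
      rw [hb, Ideal.mem_bot] at this
      exact Ideal.Quotient.eq_zero_iff_mem.mp this
    have hmax := Ideal.IsPrime.isMaximal_of_ne_bot hPb hne
    have hPc : (P.map (Ideal.Quotient.mk q)).comap (Ideal.Quotient.mk q) = P := by
      rw [Ideal.comap_map_of_surjective _ Ideal.Quotient.mk_surjective,
        ← RingHom.ker_eq_comap_bot, Ideal.mk_ker]
      exact sup_eq_left.mpr hle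
    have : P.IsMaximal := by
      rw [← hPc]
      exact Ideal.comap_isMaximal_of_surjective _ Ideal.Quotient.mk_surjective
    exact IsLocalRing.eq_maximalIdeal this
  · intro hq
    have : IsField (T ⧸ q) := by
      rw [← Ideal.Quotient.maximal_ideal_iff_isField_quotient, hq]
      infer_instance
    rw [ringKrullDim_eq_zero_of_isField this] at h
    exact zero_ne_one h

end Groth.Agent.H8.OneDim

namespace Groth.Agent.H8.OneDim

open Groth.Agent.H8.Hens Groth.Agent.H8.Brnch

section Completion

variable (A : Type u) [CommRing A] [IsLocalRing A] [IsNoetherianRing A]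

theorem isNoetherianRing_adicCompletion :
    IsNoetherianRing (AdicCompletion (maximalIdeal A) A) := by
  haveI : IsNoetherianRing (A ⧸ maximalIdeal A) := inferInstance
  exact isNoetherianRing_adicCompletion_of_fg A _ (IsNoetherian.noetherian _)

theorem henselianLocalRing_adicCompletion :
    HenselianLocalRing (AdicCompletion (maximalIdeal A) A) :=
  { is_henselian := fun f hf a₀ h₁ h₂ =>
      HenselianRing.is_henselian
        (I := maximalIdeal (AdicCompletion (maximalIdeal A) A)) f hf a₀ h₁ (h₂.map _) }

theorem exists_sub_mem_maximalIdeal_adicCompletion (t : AdicCompletion (maximalIdeal A) A) :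
    ∃ a : A, t - algebraMap A _ a ∈ maximalIdeal (AdicCompletion (maximalIdeal A) A) := by
  obtain ⟨z, hz⟩ := (AdicCompletion.residueField_map_bijective A).2 (residue _ t)
  obtain ⟨a, rfl⟩ := residue_surjective z
  refine ⟨a, ?_⟩
  rw [ResidueField.map_residue] at hz
  rw [← Ideal.Quotient.eq]
  exact hz.symm

end Completion

end Groth.Agent.H8.OneDim
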