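import Mathlib
import Groth.Agent.Lib.Helper8.OneDim.Final

/-!
# Immediate étale generizations: a local ring and its completion (helper8)
-/

universe u
open IsLocalRing

namespace Groth.Agent.H8.OneDim

open Groth.Agent.H8.Hens Groth.Agent.H8.Brnch

section GoingDown

variable {S T : Type*} [CommRing S] [CommRing T] [Algebra S T]

/-- A minimal prime over `J T` is minimal over the extension of its contraction. -/
theorem mem_minimalPrimes_map_comap_of_mem {J : Ideal S} {Q : Ideal T}
    (hQ : Q ∈ (J.map (algebraMap S T)).minimalPrimes) :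
    Q ∈ ((Q.comap (algebraMap S T)).map (algebraMap S T)).minimalPrimes := by
  refine ⟨⟨hQ.1.1, Ideal.map_comap_le⟩, fun Q' hQ' hle => hQ.2 ⟨hQ'.1, ?_⟩ hle⟩
  exact (Ideal.map_mono (Ideal.map_le_iff_le_comap.mp hQ.1.2)).trans hQ'.2

/-- Going down: along a flat map, minimal primes over `J T` contract to minimal primes over `J`. -/
theorem comap_mem_minimalPrimes_of_flat [Module.Flat S T] {J : Ideal S} {Q : Ideal T}
    (hQ : Q ∈ (J.map (algebraMap S T)).minimalPrimes) :
    Q.comap (algebraMap S T) ∈ J.minimalPrimes := by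
  haveI := hQ.1.1
  refine ⟨⟨Ideal.comap_isPrime _ _, Ideal.map_le_iff_le_comap.mp hQ.1.2⟩, fun b hb hle => ?_⟩
  haveI := hb.1
  obtain ⟨Q', hQ'le, hQ'prime, hQ'over⟩ :=
    Ideal.exists_ideal_le_liesOver_of_le (p := b) (q := Q.under S) Q hle
  have h1 : J.map (algebraMap S T) ≤ Q' := by
    rw [Ideal.map_le_iff_le_comap]
    exact hb.2.trans hQ'over.over.le
  have h2 : Q ≤ Q' := hQ.2 ⟨hQ'prime, h1⟩ hQ'le
  calc Q.comap (algebraMap S T) ≤ Q'.comap (algebraMap S T) := Ideal.comap_mono h2
    _ = b := hQ'over.over.symm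

/-- Going down: a minimal prime over `P T`, `P` prime, contracts to `P`. -/
theorem comap_eq_of_mem_minimalPrimes_map [Module.Flat S T] {P : Ideal S} [P.IsPrime]
    {Q : Ideal T} (hQ : Q ∈ (P.map (algebraMap S T)).minimalPrimes) :
    Q.comap (algebraMap S T) = P := by
  have h := comap_mem_minimalPrimes_of_flat hQ
  exact le_antisymm (h.2 ⟨inferInstance, le_rfl⟩ h.1.2) h.1.2

/-- Along a flat map: if `b` is minimal over `J` and `Q` is minimal over `b T`, then `Q` is minimal
over `J T`. -/
theorem mem_minimalPrimes_map_of_mem [Module.Flat S T] {J b : Ideal S} (hb : b ∈ J.minimalPrimes)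
    {Q : Ideal T} (hQ : Q ∈ (b.map (algebraMap S T)).minimalPrimes) :
    Q ∈ (J.map (algebraMap S T)).minimalPrimes := by
  haveI := hb.1.1
  haveI := hQ.1.1
  have hQb : Q.comap (algebraMap S T) = b := comap_eq_of_mem_minimalPrimes_map hQ
  refine ⟨⟨inferInstance, (Ideal.map_mono hb.1.2).trans hQ.1.2⟩, fun Q' hQ' hle => ?_⟩
  haveI := hQ'.1
  have h1 : J ≤ Q'.comap (algebraMap S T) := Ideal.map_le_iff_le_comap.mp hQ'.2
  have h2 : Q'.comap (algebraMap S T) ≤ b := hQb ▸ Ideal.comap_mono hle
  have h3 : b ≤ Q'.comap (algebraMap S T) := hb.2 ⟨Ideal.comap_isPrime _ _, h1⟩ h2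
  exact hQ.2 ⟨hQ'.1, Ideal.map_le_iff_le_comap.mpr h3⟩ hle

end GoingDown

section Dim

variable {T : Type*} [CommRing T] [IsLocalRing T]

/-- A non-maximal prime with quotient of dimension at most one has quotient of dimension one. -/
theorem ringKrullDim_quotient_eq_one_of_le {Q : Ideal T} [Q.IsPrime]
    (h : ringKrullDim (T ⧸ Q) ≤ 1) (hne : Q ≠ maximalIdeal T) : ringKrullDim (T ⧸ Q) = 1 := by
  obtain ⟨n, hn⟩ : ∃ n : ℕ∞, ringKrullDim (T ⧸ Q) = n := by
    have h0 := ringKrullDim_nonneg_of_nontrivial (R := T ⧸ Q)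
    refine ⟨(ringKrullDim (T ⧸ Q)).unbot ?_, (WithBot.coe_unbot _ _).symm⟩
    intro h'
    rw [h'] at h0
    simp at h0
  rw [hn] at h ⊢
  have h1 : n ≤ 1 := by exact_mod_cast h
  rcases h1.lt_or_eq with h2 | h2
  · exfalso
    have h3 : n = 0 := Order.lt_one_iff.mp h2
    haveI : Ring.KrullDimLE 0 (T ⧸ Q) := Ring.krullDimLE_iff.mpr (by rw [hn, h3]; rfl)
    have hf : IsField (T ⧸ Q) := Ring.KrullDimLE.isField_of_isDomain
    exact hne (IsLocalRing.eq_maximalIdeal
      ((Ideal.Quotient.maximal_ideal_iff_isField_quotient Q).mpr hf))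
  · rw [h2]; rfl

/-- If `Q` is the only minimal prime over `J` and the only primes above `Q` are `Q` and the maximal
ideal, then `dim T/J ≤ 1`. -/
theorem ringKrullDim_quotient_le_one_of_minimalPrimes_eq_singleton {J Q : Ideal T}
    (h1 : J.minimalPrimes = {Q})
    (hd1 : ∀ P : Ideal T, P.IsPrime → Q ≤ P → P = Q ∨ P = maximalIdeal T) :
    ringKrullDim (T ⧸ J) ≤ 1 := by
  have hcomap_inj : Function.Injective (Ideal.comap (Ideal.Quotient.mk J)) :=
    Ideal.comap_injective_of_surjective _ Ideal.Quotient.mk_surjective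
  have hQ : Q ∈ J.minimalPrimes := h1 ▸ Set.mem_singleton Q
  have hJtop : J ≠ ⊤ := fun h => hQ.1.1.ne_top (top_le_iff.mp (h ▸ hQ.1.2))
  haveI : Nontrivial (T ⧸ J) := Ideal.Quotient.nontrivial_iff.mpr hJtop
  haveI : IsLocalRing (T ⧸ J) :=
    IsLocalRing.of_surjective' (Ideal.Quotient.mk J) Ideal.Quotient.mk_surjective
  have hmTcomap : (maximalIdeal (T ⧸ J)).comap (Ideal.Quotient.mk J) = maximalIdeal T := by
    haveI : ((maximalIdeal (T ⧸ J)).comap (Ideal.Quotient.mk J)).IsMaximal :=
      Ideal.comap_isMaximal_of_surjective _ Ideal.Quotient.mk_surjective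
    exact IsLocalRing.eq_maximalIdeal inferInstance
  rw [Ideal.minimalPrimes_eq_comap] at hQ
  obtain ⟨Qb, hQb, hQbQ⟩ := hQ
  have h : Ring.KrullDimLE 1 (T ⧸ J) := by
    rw [Ring.krullDimLE_one_iff]
    intro I hI
    have hI' : (I.comap (Ideal.Quotient.mk J)).IsPrime := Ideal.comap_isPrime _ _
    have hJI : J ≤ I.comap (Ideal.Quotient.mk J) := by
      intro x hx
      rw [Ideal.mem_comap, Ideal.Quotient.eq_zero_iff_mem.mpr hx]
      exact I.zero_mem
    obtain ⟨Q', hQ', hQ'le⟩ := Ideal.exists_minimalPrimes_le hJI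
    rw [h1, Set.mem_singleton_iff] at hQ'
    subst hQ'
    rcases hd1 _ hI' hQ'le with h | h
    · left
      rw [← hQbQ] at h
      rw [hcomap_inj h]
      exact hQb
    · right
      rw [← hmTcomap] at h
      rw [hcomap_inj h]
      infer_instance
  exact Ring.krullDimLE_iff.mp h

end Dim

section QuotDim

variable {S T : Type u} [CommRing S] [IsLocalRing S] [IsNoetherianRing S]
  [CommRing T] [IsLocalRing T] [IsNoetherianRing T] [Algebra S T] [Module.Flat S T]
  [IsLocalHom (algebraMap S T)]
  (hm : (maximalIdeal S).map (algebraMap S T) = maximalIdeal T)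

include hm in
/-- For a flat local homomorphism `S → T` of Noetherian local rings with `m_S T = m_T` and any
proper ideal `P` of `S`, `dim T/PT = dim S/P`. -/
theorem ringKrullDim_quotient_map_eq {P : Ideal S} (hP : P ≠ ⊤) :
    ringKrullDim (T ⧸ P.map (algebraMap S T)) = ringKrullDim (S ⧸ P) := by
  set J := P.map (algebraMap S T) with hJ
  have hJm : J ≤ maximalIdeal T := by
    rw [← hm]; exact Ideal.map_mono (le_maximalIdeal hP)
  have hJtop : J ≠ ⊤ := fun h => (Ideal.IsPrime.ne_top (inferInstance : (maximalIdeal T).IsPrime))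
    (top_le_iff.mp (h ▸ hJm))
  haveI : Nontrivial (S ⧸ P) := Ideal.Quotient.nontrivial_iff.mpr hP
  haveI : IsLocalRing (S ⧸ P) :=
    IsLocalRing.of_surjective' (Ideal.Quotient.mk P) Ideal.Quotient.mk_surjective
  haveI : Nontrivial (T ⧸ J) := Ideal.Quotient.nontrivial_iff.mpr hJtop
  haveI : IsLocalRing (T ⧸ J) :=
    IsLocalRing.of_surjective' (Ideal.Quotient.mk J) Ideal.Quotient.mk_surjective
  haveI : Module.Flat (S ⧸ P) (T ⧸ J) :=
    Module.Flat.of_linearEquiv
      (Algebra.TensorProduct.quotIdealMapEquivQuotTensor T P).toLinearEquiv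
  haveI hlocS : IsLocalHom (Ideal.Quotient.mk P) := .of_surjective _ Ideal.Quotient.mk_surjective
  haveI hlocT : IsLocalHom (Ideal.Quotient.mk J) := .of_surjective _ Ideal.Quotient.mk_surjective
  have halg : ∀ a : S, algebraMap (S ⧸ P) (T ⧸ J) (Ideal.Quotient.mk P a) =
      Ideal.Quotient.mk J (algebraMap S T a) := fun a => rfl
  haveI : IsLocalHom (algebraMap (S ⧸ P) (T ⧸ J)) := by
    constructor
    intro z hz
    obtain ⟨a, rfl⟩ := Ideal.Quotient.mk_surjective z
    rw [halg] at hz
    have h1 : IsUnit (algebraMap S T a) := isUnit_of_map_unit (Ideal.Quotient.mk J) _ hz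
    exact (isUnit_of_map_unit (algebraMap S T) _ h1).map _
  have hmS : maximalIdeal (S ⧸ P) = (maximalIdeal S).map (Ideal.Quotient.mk P) := by
    apply le_antisymm
    · intro z hz
      obtain ⟨a, rfl⟩ := Ideal.Quotient.mk_surjective z
      apply Ideal.mem_map_of_mem
      rw [mem_maximalIdeal, mem_nonunits_iff] at hz ⊢
      exact fun h => hz (h.map _)
    · rw [Ideal.map_le_iff_le_comap]
      intro a ha
      exact mk_mem_maximalIdeal P ha
  have hmT : maximalIdeal (T ⧸ J) = (maximalIdeal T).map (Ideal.Quotient.mk J) := by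
    apply le_antisymm
    · intro z hz
      obtain ⟨a, rfl⟩ := Ideal.Quotient.mk_surjective z
      apply Ideal.mem_map_of_mem
      rw [mem_maximalIdeal, mem_nonunits_iff] at hz ⊢
      exact fun h => hz (h.map _)
    · rw [Ideal.map_le_iff_le_comap]
      intro a ha
      exact mk_mem_maximalIdeal J ha
  have hm' : (maximalIdeal (S ⧸ P)).map (algebraMap (S ⧸ P) (T ⧸ J)) = maximalIdeal (T ⧸ J) := by
    rw [hmS, hmT, ← hm, Ideal.map_map, Ideal.map_map]
    congr 1
  have h0 : ringKrullDim ((T ⧸ J) ⧸ maximalIdeal (T ⧸ J)) = 0 :=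
    ringKrullDim_eq_zero_of_isField
      ((Ideal.Quotient.maximal_ideal_iff_isField_quotient _).mp inferInstance)
  rw [Groth.Agent.H1.FlatDim.ringKrullDim_eq_add_fiber_of_flat (S ⧸ P) (T ⧸ J), hm', h0, add_zero]

end QuotDim

section Main

variable (A : Type u) [CommRing A] [IsLocalRing A] [IsNoetherianRing A]
  (S' : Type u) [CommRing S'] [IsLocalRing S'] [Algebra A S'] [IsLocalHom (algebraMap A S')]
  [Hensel.IsStrictHenselization A S']
  (T' : Type u) [CommRing T'] [IsLocalRing T'] [Algebra (AdicCompletion (maximalIdeal A) A) T']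
  [IsLocalHom (algebraMap (AdicCompletion (maximalIdeal A) A) T')]
  [Hensel.IsStrictHenselization (AdicCompletion (maximalIdeal A) A) T']

/-- The comparison map from a strict henselization of `A` to a strict henselization of the
completion of `A`: it is flat, local, `m_{S'} T' = m_{T'}` and it is surjective on residue fields. -/
theorem exists_map_strictHenselization_completion :
    ∃ g : S' →+* T', g.comp (algebraMap A S') =
        (algebraMap (AdicCompletion (maximalIdeal A) A) T').comp
          (algebraMap A (AdicCompletion (maximalIdeal A) A)) ∧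
      IsLocalHom g ∧ g.Flat ∧ (maximalIdeal S').map g = maximalIdeal T' ∧
      ∀ t : T', ∃ r : S', t - g r ∈ maximalIdeal T' := by
  haveI hN := isNoetherianRing_adicCompletion A
  haveI hS : Hensel.IsStrictHenselization A S' := inferInstance
  haveI hT : Hensel.IsStrictHenselization (AdicCompletion (maximalIdeal A) A) T' := inferInstance
  haveI : HenselianLocalRing S' := hS.henselian
  haveI : HenselianLocalRing T' := hT.henselian
  haveI : IsSepClosed (ResidueField T') := hT.isSepClosure.sep_closed
  let f : A →+* T' := (algebraMap (AdicCompletion (maximalIdeal A) A) T').comp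
    (algebraMap A (AdicCompletion (maximalIdeal A) A))
  haveI hf : IsLocalHom f := RingHom.isLocalHom_comp _ _
  obtain ⟨g, hg, hgloc⟩ := LT.exists_lift_of_isSepClosed (A := A) (S := S') T' f
  refine ⟨g, hg, hgloc, ?_, ?_, ?_⟩
  · letI : Algebra A T' := f.toAlgebra
    letI : Algebra S' T' := g.toAlgebra
    haveI : IsScalarTower A (AdicCompletion (maximalIdeal A) A) T' :=
      IsScalarTower.of_algebraMap_eq fun _ => rfl
    haveI : IsScalarTower A S' T' := IsScalarTower.of_algebraMap_eq fun a =>
      (congrArg (fun w => w a) hg).symm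
    haveI : Module.FaithfullyFlat (AdicCompletion (maximalIdeal A) A) T' :=
      faithfullyFlat_of_isStrictHenselization (R := AdicCompletion (maximalIdeal A) A) _
    haveI : Module.Flat A T' := Module.Flat.trans A (AdicCompletion (maximalIdeal A) A) T'
    exact flat_of_flat_base_of_isStrictHenselization (R := A) (S := S') T'
  · rw [← map_maximalIdeal_of_isStrictHenselization (R := A) S', Ideal.map_map, hg]
    show Ideal.map ((algebraMap (AdicCompletion (maximalIdeal A) A) T').comp
      (algebraMap A (AdicCompletion (maximalIdeal A) A))) (maximalIdeal A) = _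
    rw [← map_maximalIdeal_of_isStrictHenselization (R := AdicCompletion (maximalIdeal A) A) T',
      AdicCompletion.maximalIdeal_eq_map (R := A), Ideal.map_map]
  · have hsurj := residueField_map_surjective_of_isStrictHenselization A
      (AdicCompletion (maximalIdeal A) A) S' T' (AdicCompletion.residueField_map_bijective A).2 g hg
    intro t
    obtain ⟨y, hy⟩ := hsurj (residue T' t)
    obtain ⟨r, rfl⟩ := residue_surjective y
    refine ⟨r, ?_⟩
    rw [← Ideal.Quotient.eq]
    exact hy.symm

/-- A prime `p` of a Noetherian local ring `A` is an immediate étale generization of the closed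
point iff some maximal point of the formal fibre over `p` is one for the completion. -/
theorem immediate_etale_generization_iff (p : Ideal A) [p.IsPrime] :
    (∃ P ∈ (p.map (algebraMap A S')).minimalPrimes, ringKrullDim (S' ⧸ P) = 1) ↔
    (∃ q ∈ (p.map (algebraMap A (AdicCompletion (maximalIdeal A) A))).minimalPrimes,
      ∃ Q ∈ (q.map (algebraMap (AdicCompletion (maximalIdeal A) A) T')).minimalPrimes,
        ringKrullDim (T' ⧸ Q) = 1) := by
  obtain ⟨g, hg, hgloc, hgflat, hm, hres⟩ := exists_map_strictHenselization_completion A S' T'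
  haveI hN := isNoetherianRing_adicCompletion A
  haveI hS : Hensel.IsStrictHenselization A S' := inferInstance
  haveI hT : Hensel.IsStrictHenselization (AdicCompletion (maximalIdeal A) A) T' := inferInstance
  haveI : HenselianLocalRing S' := hS.henselian
  haveI : IsNoetherianRing S' := (isNoetherianRing_iff_of_isStrictHenselization (R := A) S').mp ‹_›
  haveI : IsNoetherianRing T' :=
    (isNoetherianRing_iff_of_isStrictHenselization
      (R := AdicCompletion (maximalIdeal A) A) T').mp hN
  haveI : Module.FaithfullyFlat (AdicCompletion (maximalIdeal A) A) T' :=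
    faithfullyFlat_of_isStrictHenselization (R := AdicCompletion (maximalIdeal A) A) _
  letI : Algebra S' T' := g.toAlgebra
  haveI : Module.Flat S' T' := hgflat
  haveI : IsLocalHom (algebraMap S' T') := hgloc
  have hm' : (maximalIdeal S').map (algebraMap S' T') = maximalIdeal T' := hm
  have hres' : ∀ t : T', ∃ r : S', t - algebraMap S' T' r ∈ maximalIdeal T' := hres
  have hpT : (p.map (algebraMap A S')).map (algebraMap S' T') =
      (p.map (algebraMap A (AdicCompletion (maximalIdeal A) A))).map
        (algebraMap (AdicCompletion (maximalIdeal A) A) T') := by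
    rw [Ideal.map_map, Ideal.map_map]
    congr 1
  constructor
  · rintro ⟨P, hP, hPdim⟩
    haveI := hP.1.1
    obtain ⟨-, hPne⟩ := primes_of_ringKrullDim_quotient_eq_one hPdim
    have hJtop : P.map (algebraMap S' T') ≠ ⊤ := by
      intro h
      have h1 : P.map (algebraMap S' T') ≤ maximalIdeal T' := by
        rw [← hm']; exact Ideal.map_mono (le_maximalIdeal (Ideal.IsPrime.ne_top inferInstance))
      rw [h] at h1
      exact (Ideal.IsPrime.ne_top inferInstance) (top_le_iff.mp h1)
    obtain ⟨⟨Q, hQ⟩⟩ := Ideal.nonempty_minimalPrimes hJtop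
    haveI := hQ.1.1
    have hQP : Q.comap (algebraMap S' T') = P := comap_eq_of_mem_minimalPrimes_map hQ
    have hQmin : Q ∈ ((p.map (algebraMap A S')).map (algebraMap S' T')).minimalPrimes :=
      mem_minimalPrimes_map_of_mem hP hQ
    rw [hpT] at hQmin
    refine ⟨Q.comap (algebraMap (AdicCompletion (maximalIdeal A) A) T'),
      comap_mem_minimalPrimes_of_flat hQmin, Q, mem_minimalPrimes_map_comap_of_mem hQmin, ?_⟩
    apply ringKrullDim_quotient_eq_one_of_le
    · calc ringKrullDim (T' ⧸ Q) ≤ ringKrullDim (T' ⧸ P.map (algebraMap S' T')) :=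
            ringKrullDim_le_of_surjective (Ideal.Quotient.factor hQ.1.2)
              (Ideal.Quotient.factor_surjective hQ.1.2)
        _ = ringKrullDim (S' ⧸ P) :=
            ringKrullDim_quotient_map_eq hm' (Ideal.IsPrime.ne_top inferInstance)
        _ ≤ 1 := hPdim.le
    · intro h
      apply hPne
      rw [← hQP, h]
      exact IsLocalRing.maximalIdeal_comap (algebraMap S' T')
  · rintro ⟨q, hq, Q, hQ, hQdim⟩
    haveI := hq.1.1
    haveI := hQ.1.1
    have hQmin : Q ∈ ((p.map (algebraMap A (AdicCompletion (maximalIdeal A) A))).map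
        (algebraMap (AdicCompletion (maximalIdeal A) A) T')).minimalPrimes :=
      mem_minimalPrimes_map_of_mem hq hQ
    rw [← hpT] at hQmin
    set P := Q.comap (algebraMap S' T') with hPdef
    have hP : P ∈ (p.map (algebraMap A S')).minimalPrimes := comap_mem_minimalPrimes_of_flat hQmin
    have hQP : Q ∈ (P.map (algebraMap S' T')).minimalPrimes :=
      mem_minimalPrimes_map_comap_of_mem hQmin
    haveI hPprime : P.IsPrime := hP.1.1
    obtain ⟨hd1, hne⟩ := primes_of_ringKrullDim_quotient_eq_one hQdim
    have h1 := minimalPrimes_map_eq_singleton_of_isPrime hm' hres' hPprime hQP hd1 hne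
    refine ⟨P, hP, ?_⟩
    apply ringKrullDim_quotient_eq_one_of_le
    · rw [← ringKrullDim_quotient_map_eq hm' (Ideal.IsPrime.ne_top hPprime)]
      exact ringKrullDim_quotient_le_one_of_minimalPrimes_eq_singleton h1 hd1
    · intro h
      apply hne
      refine le_antisymm (le_maximalIdeal (Ideal.IsPrime.ne_top inferInstance)) ?_
      rw [← hm', ← h]
      exact hQP.1.2

end Main

end Groth.Agent.H8.OneDim
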